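import Mathlib

/-!
Binary self-orthogonal codes of length 24, dimension 12 and minimum weight at least 8: every coset
has either a single word of weight at most 3 as its only word of weight at most 4, or exactly six
words of weight 4 with pairwise disjoint supports; the words of weight 8 form a Steiner system
S(5,8,24) and span the code, which is doubly even.
-/

namespace CfsgLib.SelfDual24

abbrev Word := Fin 24 → ZMod 2

/-- The support of a word. -/
def supp (v : Word) : Finset (Fin 24) := Finset.univ.filter fun i => v i ≠ 0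

/-- The word with the given support. -/
def word (S : Finset (Fin 24)) : Word := fun i => if i ∈ S then 1 else 0

theorem supp_word (S : Finset (Fin 24)) : supp (word S) = S := by
  ext i; by_cases h : i ∈ S <;> simp [supp, word, h]

theorem word_supp (v : Word) : word (supp v) = v := by
  funext i
  simp only [word, supp, Finset.mem_filter, Finset.mem_univ, true_and]
  revert v
  intro v
  generalize v i = a
  revert a
  decide

theorem norm_eq (v : Word) : hammingNorm v = (supp v).card := rfl

theorem word_add (S T : Finset (Fin 24)) : word S + word T = word (symmDiff S T) := by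
  funext i
  by_cases h1 : i ∈ S <;> by_cases h2 : i ∈ T <;>
    simp [word, Finset.mem_symmDiff, h1, h2, show (1 : ZMod 2) + 1 = 0 from rfl]

theorem inner_word (S T : Finset (Fin 24)) :
    ∑ i, word S i * word T i = ((S ∩ T).card : ZMod 2) := by
  rw [Finset.card_eq_sum_ones, Nat.cast_sum]
  simp only [word, Nat.cast_one, ite_mul, one_mul, zero_mul, ← ite_and, ← Finset.mem_inter]
  rw [← Finset.sum_filter]
  congr 1
  ext i; simp

theorem card_symmDiff_add (S T : Finset (Fin 24)) :
    (symmDiff S T).card + 2 * (S ∩ T).card = S.card + T.card := by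
  have h1 : (S ∪ T).card + (S ∩ T).card = S.card + T.card := Finset.card_union_add_card_inter S T
  have h2 : symmDiff S T = (S ∪ T) \ (S ∩ T) := by
    ext i; simp only [Finset.mem_symmDiff, Finset.mem_sdiff, Finset.mem_union, Finset.mem_inter]; tauto
  have h3 : (S ∩ T) ⊆ S ∪ T := fun i hi => Finset.mem_union_left _ (Finset.mem_inter.mp hi).1
  rw [h2, Finset.card_sdiff_of_subset h3]
  have := Finset.card_le_card h3
  omega

/-- A self-orthogonal `[24,12,≥8]` binary code. -/
structure Data (C : Submodule (ZMod 2) Word) : Prop where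
  dim : Module.finrank (ZMod 2) C = 12
  orth : ∀ v ∈ C, ∀ w ∈ C, ∑ i, v i * w i = 0
  min8 : ∀ w ∈ C, w ≠ 0 → 8 ≤ hammingNorm w

variable {C : Submodule (ZMod 2) Word}

/-- The coset of the word with support `S`. -/
noncomputable def cls (C : Submodule (ZMod 2) Word) (S : Finset (Fin 24)) : Word ⧸ C :=
  Submodule.Quotient.mk (word S)

theorem cls_eq_iff (S T : Finset (Fin 24)) : cls C S = cls C T ↔ word (symmDiff S T) ∈ C := by
  rw [cls, cls, Submodule.Quotient.eq, ← word_add]
  have : word S - word T = word S + word T := by
    funext i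
    simp only [Pi.sub_apply, Pi.add_apply]
    generalize word S i = a
    generalize word T i = b
    revert a b
    decide
  rw [this]

theorem Data.even (hC : Data C) {S : Finset (Fin 24)} (h : word S ∈ C) : Even S.card := by
  have := hC.orth _ h _ h
  rw [inner_word, Finset.inter_self, ZMod.natCast_eq_zero_iff] at this
  exact even_iff_two_dvd.mpr this

theorem Data.large (hC : Data C) {S T : Finset (Fin 24)} (h : cls C S = cls C T) (hne : S ≠ T) :
    8 ≤ (symmDiff S T).card := by
  have h1 := hC.min8 _ ((cls_eq_iff S T).mp h) (fun h0 => hne (by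
    have := congrArg supp h0
    rw [supp_word, show supp 0 = ∅ by simp [supp]] at this
    exact symmDiff_eq_bot.mp this))
  rwa [norm_eq, supp_word] at h1

theorem Data.small_unique (hC : Data C) {S T : Finset (Fin 24)} (hS : S.card ≤ 3) (hT : T.card ≤ 4)
    (h : cls C S = cls C T) : S = T := by
  by_contra hne
  have := hC.large h hne
  have := card_symmDiff_add S T
  omega

theorem Data.four_disjoint (hC : Data C) {S T : Finset (Fin 24)} (hS : S.card = 4) (hT : T.card = 4)
    (h : cls C S = cls C T) (hne : S ≠ T) : Disjoint S T := by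
  have := hC.large h hne
  have := card_symmDiff_add S T
  rw [Finset.disjoint_iff_inter_eq_empty, ← Finset.card_eq_zero]
  omega

open Classical in
/-- The sets of size four in a given coset. -/
noncomputable def fours (C : Submodule (ZMod 2) Word) (x : Word ⧸ C) : Finset (Finset (Fin 24)) :=
  ((Finset.univ : Finset (Fin 24)).powersetCard 4).filter fun S => cls C S = x

theorem mem_fours {x : Word ⧸ C} {S : Finset (Fin 24)} :
    S ∈ fours C x ↔ S.card = 4 ∧ cls C S = x := by
  classical simp [fours, Finset.mem_powersetCard]

theorem Data.fours_le (hC : Data C) (x : Word ⧸ C) : (fours C x).card ≤ 6 := by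
  classical
  have hd : ((fours C x : Finset (Finset (Fin 24))) : Set (Finset (Fin 24))).PairwiseDisjoint id :=
    fun S hS T hT hne => hC.four_disjoint (mem_fours.mp hS).1 (mem_fours.mp hT).1
      ((mem_fours.mp hS).2.trans (mem_fours.mp hT).2.symm) hne
  have h1 : ((fours C x).biUnion id).card = ∑ S ∈ fours C x, (id S).card := Finset.card_biUnion hd
  have h2 : ((fours C x).biUnion id).card ≤ 24 := by
    simpa using Finset.card_le_univ ((fours C x).biUnion id)
  rw [Finset.sum_congr rfl (fun S hS => show (id S).card = 4 from (mem_fours.mp hS).1),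
    Finset.sum_const, smul_eq_mul] at h1
  omega

theorem card_powerset_le_three :
    ((Finset.range 4).biUnion fun k => (Finset.univ : Finset (Fin 24)).powersetCard k).card = 2325 := by
  rw [Finset.card_biUnion]
  · simp only [Finset.card_powersetCard, Finset.card_univ, Fintype.card_fin, Finset.sum_range_succ,
      Finset.sum_range_zero]
    rfl
  · intro a _ b _ hab
    rw [Function.onFun, Finset.disjoint_left]
    intro S hS hS'
    exact hab ((Finset.mem_powersetCard.mp hS).2.symm.trans (Finset.mem_powersetCard.mp hS').2)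

/-- The coset leaders. -/
theorem Data.leaders (hC : Data C) (x : Word ⧸ C) :
    (∃ S : Finset (Fin 24), S.card ≤ 3 ∧ cls C S = x) ∨ (fours C x).card = 6 := by
  classical
  haveI := Fintype.ofFinite (Word ⧸ C)
  have hcard : Fintype.card (Word ⧸ C) = 4096 := by
    rw [Fintype.card_eq_nat_card, Module.natCard_eq_pow_finrank (K := ZMod 2), Nat.card_zmod]
    have := Submodule.finrank_quotient_add_finrank C
    rw [hC.dim, Module.finrank_pi, Fintype.card_fin] at this
    rw [show Module.finrank (ZMod 2) (Word ⧸ C) = 12 by omega]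
    norm_num
  set small := (Finset.range 4).biUnion fun k => (Finset.univ : Finset (Fin 24)).powersetCard k
  have hsmall : ∀ S, S ∈ small ↔ S.card ≤ 3 := fun S => by
    simp [small, Finset.mem_powersetCard]; omega
  set A := small.image (cls C)
  have hA : A.card = 2325 := by
    rw [Finset.card_image_of_injOn, card_powerset_le_three]
    intro S hS T hT h
    exact hC.small_unique ((hsmall S).mp hS) (le_trans ((hsmall T).mp hT) (by norm_num)) h
  set B := Aᶜ
  have hB : B.card = 1771 := by rw [Finset.card_compl, hA, hcard]
  have hcover : (Finset.univ : Finset (Fin 24)).powersetCard 4 = B.biUnion (fours C) := by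
    ext S
    simp only [Finset.mem_biUnion, mem_fours, Finset.mem_powersetCard, Finset.subset_univ, true_and]
    refine ⟨fun h => ⟨cls C S, ?_, h, rfl⟩, fun ⟨_, _, h, _⟩ => h⟩
    simp only [B, A, Finset.mem_compl, Finset.mem_image, not_exists, not_and]
    intro T hT he
    have := hC.small_unique ((hsmall T).mp hT) h.le he
    rw [this] at hT
    have := (hsmall S).mp hT
    omega
  have hsum : ∑ y ∈ B, (fours C y).card = ∑ y ∈ B, 6 := by
    rw [← Finset.card_biUnion, ← hcover, Finset.card_powersetCard, Finset.card_univ, Fintype.card_fin,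
      Finset.sum_const, hB]
    · rfl
    · intro y _ z _ hyz
      rw [Function.onFun, Finset.disjoint_left]
      intro S hS hS'
      exact hyz ((mem_fours.mp hS).2.symm.trans (mem_fours.mp hS').2)
  by_cases hx : x ∈ A
  · obtain ⟨S, hS, rfl⟩ := Finset.mem_image.mp hx
    exact Or.inl ⟨S, (hsmall S).mp hS, rfl⟩
  · exact Or.inr ((Finset.sum_eq_sum_iff_of_le fun y _ => hC.fours_le y).mp hsum x
      (Finset.mem_compl.mpr hx))

theorem Data.octad (hC : Data C) (S : Finset (Fin 24)) (hS : S.card = 5) :
    ∃! T : Finset (Fin 24), (word T ∈ C ∧ T.card = 8) ∧ S ⊆ T := by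
  rcases hC.leaders (cls C S) with ⟨U, hU, hUS⟩ | h6
  · have hw := (cls_eq_iff U S).mp hUS
    have hne : U ≠ S := fun h => by rw [h] at hU; omega
    have h8 := hC.large hUS hne
    have := card_symmDiff_add U S
    have hint : U ∩ S = ∅ := by rw [← Finset.card_eq_zero]; omega
    refine ⟨symmDiff U S, ⟨⟨hw, by omega⟩, ?_⟩, ?_⟩
    · intro i hi
      rw [Finset.mem_symmDiff]
      exact Or.inr ⟨hi, fun hiU => by
        have : i ∈ U ∩ S := Finset.mem_inter.mpr ⟨hiU, hi⟩
        rw [hint] at this
        exact Finset.notMem_empty i this⟩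
    · rintro T ⟨⟨hT, hT8⟩, hST⟩
      by_contra hne'
      have hsum : word T + word (symmDiff U S) ∈ C := C.add_mem hT hw
      rw [word_add] at hsum
      have h1 := hC.min8 _ hsum (fun h0 => hne' (by
        have := congrArg supp h0
        rw [supp_word, show supp 0 = ∅ by simp [supp]] at this
        exact symmDiff_eq_bot.mp this))
      rw [norm_eq, supp_word] at h1
      have h2 := card_symmDiff_add T (symmDiff U S)
      have h3 : S ⊆ T ∩ symmDiff U S := fun i hi => Finset.mem_inter.mpr ⟨hST hi, by
        rw [Finset.mem_symmDiff]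
        exact Or.inr ⟨hi, fun hiU => by
          have : i ∈ U ∩ S := Finset.mem_inter.mpr ⟨hiU, hi⟩
          rw [hint] at this
          exact Finset.notMem_empty i this⟩⟩
      have := Finset.card_le_card h3
      omega
  · exfalso
    obtain ⟨T, hT⟩ := Finset.card_pos.mp (by omega : 0 < (fours C (cls C S)).card)
    rw [mem_fours] at hT
    obtain ⟨a, ha⟩ := hC.even ((cls_eq_iff T S).mp hT.2)
    have := card_symmDiff_add T S
    omega

theorem Data.mem_span (hC : Data C) :
    ∀ (n : ℕ) (v : Word), v ∈ C → hammingNorm v = n →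
      v ∈ Submodule.span (ZMod 2) {w : Word | w ∈ C ∧ hammingNorm w = 8} := by
  intro n
  induction n using Nat.strong_induction_on with
  | _ n ih =>
    intro v hv hn
    rcases eq_or_ne v 0 with rfl | h0
    · exact Submodule.zero_mem _
    have h8 := hC.min8 v hv h0
    by_cases hn8 : n = 8
    · exact Submodule.subset_span ⟨hv, hn.trans hn8⟩
    rw [norm_eq] at hn h8
    obtain ⟨S, hSs, hS⟩ := Finset.exists_subset_card_eq (show 5 ≤ (supp v).card by omega)
    obtain ⟨T, ⟨⟨hT, hT8⟩, hST⟩, -⟩ := hC.octad S hS
    have h1 := card_symmDiff_add (supp v) T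
    have h2 := Finset.card_le_card (Finset.subset_inter hSs hST)
    have hsum : word (symmDiff (supp v) T) ∈ C := by
      rw [← word_add, word_supp]; exact C.add_mem hv hT
    have h3 := ih _ (by omega : (symmDiff (supp v) T).card < n) _ hsum (by rw [norm_eq, supp_word])
    have h4 : word T ∈ Submodule.span (ZMod 2) {w : Word | w ∈ C ∧ hammingNorm w = 8} :=
      Submodule.subset_span ⟨hT, by rw [norm_eq, supp_word, hT8]⟩
    have h5 := Submodule.sub_mem _ h3 h4
    rwa [← word_add, word_supp, add_sub_cancel_right] at h5

theorem Data.span_eq (hC : Data C) :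
    Submodule.span (ZMod 2) {w : Word | w ∈ C ∧ hammingNorm w = 8} = C :=
  le_antisymm (Submodule.span_le.mpr fun _ hw => hw.1) fun v hv => hC.mem_span _ v hv rfl

theorem Data.doubly_even (hC : Data C) (v : Word) (hv : v ∈ C) : 4 ∣ hammingNorm v := by
  rw [← hC.span_eq] at hv
  refine (Submodule.span_induction (p := fun x _ => x ∈ C ∧ 4 ∣ hammingNorm x)
    (fun w hw => ⟨hw.1, by rw [hw.2]; norm_num⟩) ⟨C.zero_mem, by simp⟩ ?_ ?_ hv).2
  · intro x y _ _ hx hy
    refine ⟨C.add_mem hx.1 hy.1, ?_⟩
    have he := hC.orth x hx.1 y hy.1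
    rw [← word_supp x, ← word_supp y, inner_word, ZMod.natCast_eq_zero_iff] at he
    rw [← word_supp x, ← word_supp y, word_add, norm_eq, supp_word]
    have := card_symmDiff_add (supp x) (supp y)
    obtain ⟨a, ha⟩ := he
    obtain ⟨b, hb⟩ := hx.2
    obtain ⟨c, hc⟩ := hy.2
    rw [norm_eq] at hb hc
    omega
  · intro a x _ hx
    rcases (by decide : ∀ a : ZMod 2, a = 0 ∨ a = 1) a with rfl | rfl
    · exact ⟨by rw [zero_smul]; exact C.zero_mem, by rw [zero_smul]; simp⟩
    · rwa [one_smul]

end CfsgLib.SelfDual24
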